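import Cfsg.Agent.Lib.LXR.Az
import Cfsg.Agent.Lib.LXW.Xc
import Cfsg.Agent.Lib.LXW.R2a
import Cfsg.Agent.Lib.LXW.Act
import Cfsg.Agent.Lib.Pat.NW

/-! If `z` is weakly closed in `Q_z`, then `C(z)` is irreducible on `Q_z / ⟨z⟩` -/

set_option autoImplicit false

namespace CfsgLib.LXR

open Subgroup QuadraticMap CfsgLib.ExtraTwo CfsgLib.LargeExtra CfsgLib.LXW CfsgLib.LXW.Fam
open CfsgLib.LXQ (Qx)

variable {G : Type*} [Group G] [Finite G]

section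
variable {V : Type*} [AddCommGroup V] [Module (ZMod 2) V] {F : Fam G V} {z t : G} (p : F.T1 z t)
  {W : Submodule (ZMod 2) V} (hW : ∀ h, Commute h z → ∀ v ∈ W, F.ρ z h v ∈ W)
include p hW

theorem wc_meet (h0 : W ≠ ⊥) : ∃ s ∈ W, s ≠ 0 ∧ s ∈ LinearMap.range (F.N z t) := by
  by_contra! c
  obtain ⟨w, hw, w0⟩ := (Submodule.ne_bot_iff W).1 h0
  have k : ∀ b, Commute b z → F.N z b w ∈ LinearMap.range (F.N z t) → F.N z b w = 0 := fun b cb e =>
    by_contra fun n => c _ (add_mem (hW b cb w hw) hw) n e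
  have k1 := k t p.c ⟨w, rfl⟩
  obtain ⟨x, hx, nx⟩ : ∃ x ∈ F.Q z, ¬ Commute x t := by
    by_contra! e
    exact ((F.pre z p.hz).cent t e).elim (ne_one p.ht) p.ne
  refine c w hw w0 (mem_range p.hz p.c fun v hv => ?_)
  obtain ⟨b, hb, cb, u, e⟩ := p.onto hx nx hv
  have := congrArg (polar F.q · w) e
  simp only [polar_add_left, p.toPr.b_N, k1, b_N p.hz cb,
    k _ cb.inv_left (p.M_ker (inv_mem hb) cb.inv_left k1), polar_zero_right, zero_add] at this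
  exact this.symm

omit [Finite G] in
theorem wc_pp (h : G) (c : Commute h z) (v : V) (hv : v ∈ LXW.pp F.q W) : F.ρ z h v ∈ LXW.pp F.q W := fun u hu => by
  rw [← hv _ (hW _ c.inv_left u hu), ← b_ρ p.hz c (F.ρ z h⁻¹ u), ← Module.End.mul_apply, ρ_inv p.hz c]; rfl

theorem wc_iso (big : 16 < Nat.card V) (hi : W ≤ LXW.pp F.q W) : W = ⊥ := by
  by_contra h0
  have := F.fin
  have hz := p.hz
  have k1 : ∀ u ∈ W, F.N z t u = 0 := fun u hu => by
    by_contra n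
    obtain ⟨x, hx, rfl⟩ := surj hz u
    have k : ∀ v, F.N z t v = 0 → ∃ w ∈ W, ∃ y, v = w + F.N z t y := fun v hv => by
      obtain ⟨b, -, cb, y, e⟩ := p.onto hx (fun e => n (N_fix hz p.c hx e)) hv
      exact ⟨_, add_mem (hW b cb _ hu) hu, y, by rw [e, ← N_apply, ← add_assoc, add_self_zmod2, zero_add]⟩
    have c1 := card_sq_le (F.nd hz) (U := LinearMap.ker (F.N z t)) fun v hv v' hv' => by
      obtain ⟨w, hw, y, e⟩ := k v hv
      obtain ⟨w', hw', y', e'⟩ := k v' hv'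
      have e1 : F.N z t w = 0 := by simpa [e, p.toPr.NN] using LinearMap.mem_ker.1 hv
      rw [e, polar_add_left, b_N_fix hz p.c y hv', e', polar_add_right, hi hw' w hw, polar_comm,
        b_N_fix hz p.c y' e1]; simp
    have c2 := p.card_ker
    nlinarith
  let P : Subgroup G :=
    { carrier := {g | Commute g z ∧ (∀ u ∈ W, F.N z g u = 0) ∧ ∀ v ∈ LXW.pp F.q W, F.N z g v ∈ W}
      mul_mem' := fun {a b} ha hb => ⟨ha.1.mul_left hb.1, fun u hu => by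
        simp [N_mul hz ha.1 hb.1, ha.2.1 u hu, hb.2.1 u hu], fun v hv => by
        simpa [N_mul hz ha.1 hb.1, ha.2.1 _ (hb.2.2 v hv)] using add_mem (ha.2.2 v hv) (hb.2.2 v hv)⟩
      one_mem' := ⟨Commute.one_left _, by simp [N_Q hz (one_mem _)], by simp [N_Q hz (one_mem _)]⟩
      inv_mem' := fun {a} ha => ⟨ha.1.inv_left, fun u hu => N_inv_zero hz ha.1 (ha.2.1 u hu), fun v hv =>
        OntoAux.N_inv hz ha.1 v ▸ hW _ ha.1.inv_left _ (ha.2.2 v hv)⟩ }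
  obtain ⟨s, hs, s0, e⟩ := wc_meet p hW h0
  obtain ⟨s', -, -, -, e, -⟩ := p.form s0 e
  refine p.toPr.nt (F.o2 z hz P (fun g => ⟨4, Subtype.ext ?_⟩) (fun _ h => h.1) (fun h c g hg =>
    ⟨(c.mul_left hg.1).mul_left c.inv_left, fun u hu => ?_, fun v hv => ?_⟩) ⟨p.c, k1, fun v hv => ?_⟩)
  · have c := g.2.1
    have : (g : G) * g * (g * g) ∈ F.Q z := mem_of_N hz ((c.mul_left c).mul_left (c.mul_left c)) (LinearMap.ext fun v => by
      simp [N_sq hz (c.mul_left c), N_sq hz c, g.2.2.1 _ (g.2.2.2 _ fun u hu =>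
        (polar_comm _ _ _).trans (b_N_fix hz c v (g.2.2.1 u hu)))])
    rw [coe_pow, coe_one, ← (es hz).pow_four this]; simp only [← pow_two (g : G), ← pow_add, ← pow_mul]; rfl
  · simp [N_conj hz c hg.1, hg.2.1 _ (hW _ c.inv_left u hu)]
  · rw [N_conj hz c hg.1]
    exact hW h c _ (hg.2.2 _ (wc_pp p hW _ c.inv_left v hv))
  · rw [e, wdg_apply, hv s hs, zero_smul, zero_add]; exact W.smul_mem _ hs

theorem wc_irr (big : 16 < Nat.card V) : W = ⊥ ∨ W = ⊤ := by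
  by_contra! c
  have := F.fin
  have k : ∀ v ∈ W, v ∈ LXW.pp F.q W → v = 0 := fun v a b => (wc_iso p (W := W ⊓ LXW.pp F.q W)
    (fun h c v hv => ⟨hW h c v hv.1, wc_pp p hW h c v hv.2⟩) big fun v hv u hu => hv.2 u hu.1).le ⟨a, b⟩
  obtain ⟨s, hs, s0, e⟩ := wc_meet p hW c.1
  obtain ⟨u, hu, u0, e'⟩ := wc_meet p (wc_pp p hW) fun e => c.2 (eq_top_iff.2 fun v _ =>
    (LXW.pp_pp (F.nd p.hz) W).le fun u hu => by rw [show u = 0 from e.le hu, polar_zero_left])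
  obtain ⟨s', -, -, -, e, f⟩ := p.form s0 e
  obtain ⟨v, hv, n⟩ : ∃ v ∈ W, polar F.q s v ≠ 0 := by
    by_contra! n
    exact s0 (k s hs fun v hv => (polar_comm _ _ _).trans (n v hv))
  have m := add_mem (hW t p.c v hv) hv
  rw [← N_apply, e, wdg_apply, zmod2_ne_zero.1 n, one_smul, add_mem_cancel_right (W.smul_mem _ hs)] at m
  refine u0 (k u ?_ hu)
  rcases f u e' with rfl | rfl | rfl | rfl
  exacts [zero_mem _, hs, m, add_mem hs m]

end

theorem exists_fam {Q : Subgroup G} {z : G} (h : Pre Q z) (h2 : amb (Cfsg.pCore 2 (centralizer ({z} : Set G))) ≤ Q)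
    (h32 : 32 ≤ Nat.card Q) (wc : ∀ g, g * z * g⁻¹ ∈ Q → g * z * g⁻¹ = z) :
    ∃ (n : ℕ) (F : Fam G (Fin n → ZMod 2)), F.D = Group.conjugatesOfSet {z} ∧ F.Q z = Q := by
  classical
  obtain ⟨n, q, π, c⟩ := h.es.exists_coord
  obtain ⟨ρ, hρ, -, -⟩ := h.exists_act c
  have : ∀ d, ∃ g, (∃ g, g * z * g⁻¹ = d) → g * z * g⁻¹ = d := fun d => by
    by_cases e : ∃ g, g * z * g⁻¹ = d
    exacts [e.imp fun _ e _ => e, ⟨1, fun e' => absurd e' e⟩]
  choose γ hγ using this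
  have u : ∀ {d k}, (∃ g, g * z * g⁻¹ = d) → Commute k d → (γ d)⁻¹ * k * γ d ∈ centralizer ({z} : Set G) := fun {d k} hd ck =>
    mem_cent.2 (by
      have := (show Commute k (γ d * z * (γ d)⁻¹) by rwa [hγ d hd]).conj (γ d)⁻¹
      simpa [mul_assoc] using this.eq)
  have P : ∀ d, (∃ g, g * z * g⁻¹ = d) → Pre (Q.map (MulAut.conj (γ d)).toMonoidHom) d := fun d hd => by
    simpa only [hγ d hd] using h.conj (γ d)
  refine ⟨n, ⟨q, {d | ∃ g, g * z * g⁻¹ = d}, fun d => Q.map (MulAut.conj (γ d)).toMonoidHom, fun d x => π ((γ d)⁻¹ * x * γ d),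
    fun d k => if e : (γ d)⁻¹ * k * γ d ∈ centralizer ({z} : Set G) then (ρ ⟨_, e⟩).toLinearMap else 1, P, fun d hd => ?_,
    fun d hd k ck x hx => ?_, ?_, fun g d hd x hx => ?_, ?_, fun d hd x hx e => ?_, fun d hd R hR c1 c2 x hx => ?_, ?_⟩, ?_, ?_⟩
  · have e := hγ d hd
    refine ⟨(P d hd).es, fun x hx y hy => ?_, fun v => ?_, fun x hx => ?_, fun x hx => ?_⟩
    · rw [← c.map_mul _ (mem_map_conj.1 hx) _ (mem_map_conj.1 hy)]; congr 1; group
    · obtain ⟨x, hx, rfl⟩ := c.surj v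
      exact ⟨γ d * x * (γ d)⁻¹, ⟨x, hx, rfl⟩, by congr 1; group⟩
    · rw [c.ker _ (mem_map_conj.1 hx)]
      refine or_congr (by simpa using conj_eq_one_iff (a := (γ d)⁻¹) (b := x)) ⟨fun k => ?_, fun k => ?_⟩
      · rw [← e, ← k]; group
      · rw [k]; nth_rw 2 [← e]; group
    · rw [c.sq _ (mem_map_conj.1 hx), show (γ d)⁻¹ * x * γ d * ((γ d)⁻¹ * x * γ d) = (γ d)⁻¹ * (x * x) * (γ d)⁻¹⁻¹ by group,
        conj_eq_one_iff]
  · rw [dif_pos (u hd ck), LinearEquiv.coe_coe, hρ _ _ (mem_map_conj.1 hx)]; congr 1; group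
  · rintro g _ ⟨k, rfl⟩; exact ⟨g * k, by group⟩
  · have e := hγ (g * d * g⁻¹) (hd.elim fun k e => ⟨g * k, by rw [← e]; group⟩)
    have := h.conj_mem_of_eq (n := g * γ d) (g := γ (g * d * g⁻¹)) (by rw [e]; nth_rw 3 [← hγ d hd]; group) (mem_map_conj.1 hx)
    simpa [mul_assoc] using this
  · rintro _ ⟨g, rfl⟩ _ ⟨k, rfl⟩; exact ⟨k * g⁻¹, by group⟩
  · obtain ⟨k, rfl⟩ := hx
    have := wc ((γ d)⁻¹ * k) (by simpa [mul_assoc] using mem_map_conj.1 e)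
    rw [← hγ d hd]; nth_rw 2 [← this]; group
  · let R' := (R.map (MulAut.conj (γ d)⁻¹).toMonoidHom).subgroupOf (centralizer {z})
    have : R'.Normal := ⟨fun y hy g => by
      obtain ⟨y', hy', e⟩ := mem_subgroupOf.1 hy
      refine mem_subgroupOf.2 ⟨_, c2 (γ d * g * (γ d)⁻¹) ?_ y' hy', ?_⟩
      · simpa only [hγ d hd] using (show Commute g.1 z from mem_cent.1 g.2).conj (γ d)
      · simp [← e, mul_assoc]⟩
    exact mem_map_conj.2 (h2 ⟨⟨_, u hd (c1 x hx)⟩, Core.le_pCore (N := R') ((hR.map _).comap_of_injective _ (subtype_injective _))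
      (mem_subgroupOf.2 ⟨x, hx, by simp⟩), rfl⟩)
  · have := c.card_eq; omega
  · ext d; simp [Group.mem_conjugatesOfSet_iff, isConj_iff]
  · have k : (γ z) * z = z * γ z := mul_inv_eq_iff_eq_mul.1 (hγ z ⟨1, by simp⟩)
    exact (mem_normalizer_iff_map_conj_eq.1 (h.mem_normalizer k))

theorem Hn.wc [IsSimpleGroup G] {z : G} {n : ℕ} (h : Hn z n) (hw : ∀ t, ¬ Pt z t) : ¬ Red z := by
  have h7 : 128 ≤ Nat.card (Qx z) := h.card ▸ Nat.pow_le_pow_right (n := 2) (i := 7) two_pos (by have := h.big; omega)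
  obtain ⟨m, F, hD, hQ⟩ := exists_fam h.pre le_rfl (by omega) fun g e => by_contra fun c =>
    hw _ ⟨isConj_iff.2 ⟨g, rfl⟩, e, c⟩
  have mem : ∀ g, g * z * g⁻¹ ∈ F.D := fun g => hD ▸ Group.mem_conjugatesOfSet_iff.2 ⟨z, rfl, isConj_iff.2 ⟨g, rfl⟩⟩
  obtain ⟨g, c, ne⟩ := Pat.exists_conj_comm h.ncomm h.es.orderOf_eq
  have p : F.Pr z (g * z * g⁻¹) := ⟨by simpa using mem 1, mem g, mem_cent.1 c, ne⟩
  have big : 16 < Nat.card (Fin m → ZMod 2) := by have := card_Q p.hz; rw [hQ] at this; omega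
  have hN : F.AllN := fun _ _ p => by_contra fun e => big.ne' (xc p e).1
  obtain ⟨t, pt⟩ : ∃ t, F.T1 z t := (dich p (hN _ _ p) (hN _ _ p.symm)).elim (fun a => ⟨_, a⟩)
    fun a => let ⟨_, _, b⟩ := a.exists_T1; ⟨_, b⟩
  rintro ⟨A, a, b, d, ⟨x, e, e1, e2⟩, f⟩
  rw [← hQ] at a f
  have co := F.crd z p.hz
  rcases wc_irr pt (W := co.img A) (by
    rintro k ck _ ⟨y, h1, h2, rfl⟩
    exact ⟨_, d k ck y h1, a (d k ck y h1), (F.act z p.hz k ck y h2).symm⟩) big with k | k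
  · exact ((co.ker x (a e)).1 (k.le ⟨x, e, a e, rfl⟩)).elim e1 e2
  · exact f fun y hy => (co.sub_img a b).le ⟨hy, k ▸ Submodule.mem_top⟩

end CfsgLib.LXR
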