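import Cfsg.Agent.Lib.LXR.Rho
import Cfsg.Agent.Lib.LXR.WC
import Cfsg.Agent.Lib.LXQ.Main

/-! Simple groups with a large extraspecial subgroup on which `C(z)` acts reducibly -/

set_option autoImplicit false

namespace CfsgLib.LXR

open Subgroup CfsgLib.ExtraTwo CfsgLib.LargeExtra Cfsg
open CfsgLib.LXQ (Qx)

variable {G : Type*} [Group G] [Finite G] [IsSimpleGroup G] {z : G} {n : ℕ}

theorem Hr.exists_pt (h : Hr z n) : ∃ t, Pt z t := by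
  by_contra! c; exact h.wc c h.red

theorem Hr.psl (h : Hr z n) (h4 : 4 ≤ n) :
    Nonempty (G ≃* Matrix.ProjectiveSpecialLinearGroup (Fin (n + 2)) (ZMod 2)) :=
  let ⟨_, p⟩ := h.exists_pt
  let ⟨_, T⟩ := h.exists_tw h4 p
  T.psl

theorem Hr.held (h : Hr z 3) :
    Nonempty (G ≃* Held.SL5) ∨ Nonempty (G ≃* M24) ∨ Nonempty (G ≃* Spor.He) := by
  obtain ⟨t, p⟩ := h.exists_pt
  obtain ⟨c⟩ := LXQ.Hyp.exists_cd ⟨h.pre, h.card⟩
  obtain ⟨T, E, U, ld, h1, -⟩ := c.exists_ld p.conj p.mem p.ne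
  have k : ∀ a ∈ T, ∃ x ∈ AZ z t, c.π x = a := fun a ha => by
    obtain ⟨k, hk, rfl⟩ := ld.tr _ h1 a ha
    obtain ⟨g, hg, rfl⟩ := c.mem_K.1 hk
    exact ⟨_, AZ_nrm hg self_AZ, (c.r_act hg p.mem).symm⟩
  obtain ⟨ψ, hψ⟩ := ld.ts_iso h1 fun a ha b hb => by
    obtain ⟨x, hx, rfl⟩ := k a ha
    obtain ⟨y, hy, rfl⟩ := k b hb
    exact (c.co.polar_iff (h.AZ_le p hx) (h.AZ_le p hy)).2 (h.comm p hx hy)
  exact c.held hψ

end CfsgLib.LXR
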