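import Cfsg.Agent.Lib.LXR.Tw
import Cfsg.Agent.Lib.LnRec.Glob

/-! `C(z)` is the centraliser of a transvection in `L_{n+2}(2)` -/

set_option autoImplicit false

namespace CfsgLib.LXR

open Subgroup QuadraticMap Module Matrix CfsgLib.ExtraTwo CfsgLib.LargeExtra CfsgLib.OrthE CfsgLib.Small9 CfsgLib.LnRec
open CfsgLib.LXQ (Qx)

variable {G : Type*} [Group G] [Finite G] {z a b : G} {n : ℕ}

theorem exists_lift {V W : Type*} [AddCommGroup V] [Module (ZMod 2) V] [AddCommGroup W] [Module (ZMod 2) W]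
    {Q A : Subgroup G} {q : QuadraticForm (ZMod 2) V} {π : G → V} (c : Coord Q z q π) (hA : A ≤ Q)
    (sq : ∀ x ∈ A, x * x = 1) (ι : W →ₗ[ZMod 2] V) (h : ∀ w, ι w ∈ c.img A) :
    ∃ α : W → G, (∀ w, α w ∈ A) ∧ (∀ w w', α (w + w') = α w * α w') ∧ ∀ w, π (α w) = ι w := by
  obtain ⟨m, p, p1, p2, p3⟩ := exists_coord_of_sq_mem A ⊥ sq fun x _ y _ e => by simp [mem_bot.1 e]
  choose σ s1 s2 using p2
  have inj : ∀ x ∈ A, ∀ y ∈ A, p x = p y → x = y := fun x hx y hy e => by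
    rw [eq_inv_of_mul_eq_one_left ((p3 _ (mul_mem hx hy)).1 (by rw [p1 x hx y hy, e, add_self_zmod2])),
      inv_eq_of_mul_eq_one_right (sq y hy)]
  have add : ∀ v v', σ (v + v') = σ v * σ v' := fun v v' =>
    inj _ (s1 _) _ (mul_mem (s1 v) (s1 v')) (by rw [p1 _ (s1 v) _ (s1 v'), s2, s2, s2])
  obtain ⟨k, e⟩ := Module.projective_lifting_property ((linOfAdd (fun v => π (σ v)) fun v v' => by
    rw [add, c.map_mul _ (hA (s1 v)) _ (hA (s1 v'))]).codRestrict (c.img A) fun v => ⟨_, s1 v, hA (s1 v), rfl⟩)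
    (ι.codRestrict _ h) (by
      rintro ⟨_, x, hx, -, rfl⟩
      exact ⟨p x, Subtype.ext (congrArg π (inj _ (s1 _) _ hx (s2 _)))⟩)
  exact ⟨fun w => σ (k w), fun _ => s1 _, fun w w' => by simp only [map_add, add],
    fun w => congrArg Subtype.val (LinearMap.congr_fun e w)⟩

/-- `z ^ c` -/
def zz (z : G) (c : ZMod 2) : G := if c = 0 then 1 else z

omit [Finite G] in
theorem zz_add (h : z * z = 1) (c d : ZMod 2) : zz z (c + d) = zz z c * zz z d := by
  rcases zmod2_cases c with rfl | rfl <;> rcases zmod2_cases d with rfl | rfl <;> simp [zz, h, CharTwo.add_self_eq_zero]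

omit [Finite G] in
theorem zz_comm {g : G} (h : g * z = z * g) (c : ZMod 2) (x : G) : g * (zz z c * x) = zz z c * (g * x) := by
  unfold zz; split_ifs <;> simp [← mul_assoc, h]

/-- the matrix part as an element of `SL` -/
def sl (g : El (Fin n) (ZMod 2)) : SpecialLinearGroup (Fin n) (ZMod 2) :=
  ⟨g.m, zmod2_ne_zero.1 (GeneralLinearGroup.det_ne_zero g.M)⟩

variable [IsSimpleGroup G]

namespace Tw
variable (T : Tw z a b n)
include T

theorem exists_dual (c : Cn z n) : ∃ ι κ : (Fin n → ZMod 2) →ₗ[ZMod 2] VV (2 * n),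
    LinearMap.range ι = c.E (c.π a) ∧ (∀ f, κ f ∈ c.E (c.π b)) ∧ (∀ w f, polar c.q (ι w) (κ f) = f ⬝ᵥ w) ∧
      ∀ v, ∃ w f, v = ι w + κ f := by
  have := T.neZero
  have k : ∀ {a b}, Tw z a b n → pp c.q (c.E (c.π a)) = c.E (c.π a) ∧ finrank (ZMod 2) (c.E (c.π a)) = n :=
    fun {a b} T => by
    obtain ⟨e1, e2⟩ := T.a4 T.pa T.h4 c
    have := dim_pp c.nd (c.E (c.π a))
    rw [← e1] at e2
    exact ⟨e2, by rw [e2] at this; omega⟩
  obtain ⟨a1, a2⟩ := k T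
  obtain ⟨-, b2⟩ := k T.symm'
  have d : ∀ v ∈ c.E (c.π a), v ∈ c.E (c.π b) → v = 0 := fun v p q => by
    obtain ⟨x, hx, rfl⟩ := c.co.surj v
    exact (c.co.ker x hx).2 (T.inter hx ((c.mem_E T.pa hx).1 p) ((c.mem_E T.pb hx).1 q))
  let ι := (c.E (c.π a)).subtype ∘ₗ
    (LinearEquiv.ofFinrankEq (R := ZMod 2) (Fin n → ZMod 2) (c.E (c.π a)) (by simp [a2])).toLinearMap
  have r : LinearMap.range ι = c.E (c.π a) := by simp [ι, LinearMap.range_comp]
  let Φ : c.E (c.π b) →ₗ[ZMod 2] Fin n → ZMod 2 :=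
    LinearMap.pi fun i => polarBilin c.q (ι (Pi.single i 1)) ∘ₗ (c.E (c.π b)).subtype
  have hΦ : ∀ w v, polar c.q (ι w) v.1 = Φ v ⬝ᵥ w := fun w v => by
    rw [pi_eq_sum_univ' w, map_sum, dotProduct_sum, ← polarBilin_apply_apply, map_sum, LinearMap.sum_apply]
    simp [Φ]
  let e := Φ.linearEquivOfInjective ((injective_iff_map_eq_zero Φ).2 fun v h => Subtype.ext (d _ (a1.le fun s hs => by
    obtain ⟨w, rfl⟩ := r.ge hs
    rw [hΦ, h, zero_dotProduct]) v.2)) (by simp [b2])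
  refine ⟨ι, (c.E (c.π b)).subtype ∘ₗ e.symm.toLinearMap, r, fun f => (e.symm f).2,
    fun w f => (hΦ w _).trans (congrArg (· ⬝ᵥ w) (e.apply_symm_apply f)), fun v => ?_⟩
  have := Submodule.finrank_sup_add_finrank_inf_eq (c.E (c.π a)) (c.E (c.π b))
  rw [show c.E (c.π a) ⊓ c.E (c.π b) = ⊥ from eq_bot_iff.2 fun v h => d v h.1 h.2, finrank_bot] at this
  obtain ⟨s, hs, s', hs', rfl⟩ := Submodule.mem_sup.1 ((Submodule.eq_top_of_finrank_eq
    (S := c.E (c.π a) ⊔ c.E (c.π b)) (by simp; omega)).ge (Submodule.mem_top (x := v)))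
  obtain ⟨w, rfl⟩ := r.ge hs
  exact ⟨w, e ⟨s', hs'⟩, by simp⟩

theorem psl : Nonempty (G ≃* ProjectiveSpecialLinearGroup (Fin (n + 2)) (ZMod 2)) := by
  obtain ⟨c⟩ := T.exists_cn
  obtain ⟨ι, κ, r, mκ, bi, dec⟩ := T.exists_dual c
  have k : ∀ {a}, Pt z a → ∀ ι : (Fin n → ZMod 2) →ₗ[ZMod 2] VV (2 * n), (∀ w, ι w ∈ c.E (c.π a)) → _ :=
    fun {a} p ι h => exists_lift c.co (A := Qx z ⊓ Qx a) inf_le_left (fun _ => (T.pair p).E_sq) ι fun w => by
      obtain ⟨x, hx, e⟩ := c.co.surj (ι w)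
      exact ⟨x, ⟨hx, (c.mem_E p hx).1 (e ▸ h w)⟩, hx, e⟩
  obtain ⟨α, α1, α2, α3⟩ := k T.pa ι fun w => r.le ⟨w, rfl⟩
  obtain ⟨β, β1, β2, β3⟩ := k T.pb κ mκ
  have α0 : α 0 = 1 := by simpa using α2 0 0
  have β0 : β 0 = 1 := by simpa using β2 0 0
  have cm : ∀ w f, α w * β f = β f * α w ↔ f ⬝ᵥ w = 0 := fun w f => by
    rw [← c.co.polar_iff (α1 w).1 (β1 f).1, α3, β3, bi]
  have inj : Function.Injective ι := (injective_iff_map_eq_zero ι).2 fun w e =>
    eq_zero_of_dot fun f => by rw [← bi, e, polar_zero_left]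
  have r1 : ∀ f w x, β f * (α w * x) = zz z (f ⬝ᵥ w) * (α w * (β f * x)) := fun f w x => by
    unfold zz; split_ifs with e
    · rw [one_mul, ← mul_assoc, ← (cm w f).2 e, mul_assoc]
    · rw [← mul_assoc, T.es.comm_of_ne (β1 f).1 (α1 w).1 fun e' => e ((cm w f).1 e'.symm), mul_assoc, mul_assoc]
  have tw : ∀ i j, Tw z (α (Pi.single i 1)) (β (Pi.single j 1)) n ∧ Qx z ⊓ Qx (α (Pi.single i 1)) = Qx z ⊓ Qx a ∧
      Qx z ⊓ Qx (β (Pi.single j 1)) = Qx z ⊓ Qx b := fun i j => by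
    have n1 := fun k => mt (cm (Pi.single k 1) (Pi.single k 1)).1 (by simp)
    obtain ⟨T1, e1⟩ := T.left (α1 _).1 (α1 _).2 (fun e => n1 i (by simp [e]))
      fun e => n1 i (e ▸ (T.es.comm_z _ (β1 _).1).symm)
    obtain ⟨T2, e2⟩ := T1.symm'.left (β1 _).1 (β1 _).2 (fun e => n1 j (by simp [e]))
      fun e => n1 j (e ▸ T.es.comm_z _ (α1 _).1)
    exact ⟨T2.symm', e1, e2⟩
  have mα := fun i w => ((tw i i).2.1.ge (α1 w)).2
  have mβ := fun i f => ((tw i i).2.2.ge (β1 f)).2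
  have c0 : ∀ {i j}, i ≠ j → α (Pi.single i 1) * β (Pi.single j 1) = β (Pi.single j 1) * α (Pi.single i 1) :=
    fun e => (cm _ _).2 (by simp [e.symm])
  choose y Y using fun p : ClSys.OffD n => (tw p.1.1 p.1.2).1.exists_y (c0 p.2)
  obtain ⟨ψ, hψ⟩ := ClSys.RelA.exists_hom (T.big) (x := fun p t => zz (y p) t)
    ⟨fun p t u => (zz_add (T.sq (Y p).conj) t u).symm, fun p p' t u e1 e2 => by
      have := (tw _ _).1.ycomm (Y p) (tw _ _).1 (Y p') (mα _ _) (mβ _ _) (c0 e1) (c0 e2.symm)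
      unfold zz; split_ifs <;> simp [← this], fun p p' e t u e' => by
      have := (tw _ _).1.uniq (Y ⟨(p.1.1, p'.1.2), e⟩) ((tw _ _).1.chain (Y p) (tw _ _).1 (Y p') (mα _ _) (mβ _ _)
        (c0 p.2) (c0 e) (mt (cm _ _).1 (by simp [e'])))
      rcases zmod2_cases t with rfl | rfl <;> rcases zmod2_cases u with rfl | rfl <;> simp [zz, this]⟩
  have P : ∀ M, ψ M * z = z * ψ M ∧ (∀ w x, ψ M * (α w * x) = α (M.1 *ᵥ w) * (ψ M * x)) ∧
      ∀ f x, β f * (ψ M * x) = ψ M * (β (f ᵥ* M.1) * x) := by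
    refine Classical.sl_transvection_induction _ (by simp) (fun i j e t => ?_) fun M N p q =>
      ⟨by rw [map_mul]; exact (Commute.mul_left p.1 q.1).eq, fun w x => by simp [mul_assoc, p.2.1, q.2.1],
        fun f x => by simp [mul_assoc, p.2.2, q.2.2]⟩
    rcases zmod2_cases t with rfl | rfl
    · simp [SpecialLinearGroup.transvection_coeff_zero]
    have Y := Y ⟨(i, j), e⟩
    have U := (tw i j).1
    rw [hψ ⟨(i, j), e⟩, tv_eq_l, trv_val, show zz _ 1 = y ⟨(i, j), e⟩ from rfl]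
    refine ⟨Y.c, fun w x => ?_, fun f x => ?_⟩
    · rw [one_add_mulVec, ← mul_assoc, ← mul_assoc, mul_left_inj]
      rcases zmod2_cases (Pi.single j 1 ⬝ᵥ w) with k | k <;> rw [k]
      · simpa using U.fix Y (mα i w) ((cm _ _).2 k)
      · rw [one_smul, α2, ← U.mov Y (α1 w).1 (mα i w) (mt (cm _ _).1 (by simp [k])), inv_mul_cancel_right]
    · rw [vecMul_one_add, ← mul_assoc, ← mul_assoc, mul_left_inj]
      rcases zmod2_cases (f ⬝ᵥ Pi.single i 1) with k | k <;> rw [k]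
      · simpa using (U.symm'.fix Y.symm (mβ j f) ((cm _ _).2 k).symm).symm
      · rw [one_smul, β2, ← U.symm'.mov Y.symm (β1 f).1 (mβ j f) (Ne.symm (mt (cm _ _).1 (by rw [k]; simp))),
          inv_eq_of_mul_eq_one_right (T.sq Y.conj), ← mul_assoc, ← mul_assoc, T.sq Y.conj, one_mul]
  let ρ : El (Fin n) (ZMod 2) →* G := MonoidHom.mk' (fun g => α g.w * zz z g.c * ψ (sl g) * β g.f) fun g h => by
    rw [show sl (g * h) = sl g * sl h from rfl, El.mul_w, El.mul_f, El.mul_c, add_comm _ g.w, add_comm h.f]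
    simp only [α2, β2, zz_add T.es.mul_self, map_mul, mul_assoc, r1, (P _).2.1, (P _).2.2, zz_comm (P _).1,
      zz_comm (T.es.comm_z _ (α1 _).1), zz_comm (T.es.comm_z _ (β1 _).1)]
    rfl
  have mz : ∀ t, zz z t ∈ Qx z ∧ c.π (zz z t) = 0 := fun t => by
    unfold zz; split_ifs
    exacts [⟨one_mem _, c.co.map_one⟩, ⟨T.es.mem, c.co.map_z⟩]
  have ρq : ∀ w f t, ρ (El.q w f t) = α w * zz z t * β f := fun w f t =>
    congrArg (· * β f) (show α w * zz z t * ψ 1 = _ by rw [map_one, mul_one])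
  have act : ∀ M w, (c.r (ψ M)).1 (ι w) = ι (M.1 *ᵥ w) := fun M w => by
    rw [← α3, c.r_act (P M).1 (α1 w).1, ← α3, ← mul_one (α w), (P M).2.1]; simp
  refine Sys.main ⟨ρ, (injective_iff_map_eq_one ρ).2 fun g e => ?_, fun t ht x e => ?_,
    by simpa using T.big.trans' (by decide), .inr (by simpa using T.h4)⟩ (by simp)
  · have m : ψ (sl g) ∈ Qx z := ((Qx z).mul_mem_cancel_left (mul_mem (α1 g.w).1 (mz g.c).1)).1
      (((Qx z).mul_mem_cancel_right (β1 g.f).1).1 (show ρ g ∈ _ from e ▸ one_mem _))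
    rw [El.eq_q (g := g) (ext_mulVec fun w => inj (by
      rw [one_mulVec]; exact (act (sl g) w).symm.trans (by rw [(c.r_eq_one (P _).1).2 m]; rfl)))] at e ⊢
    rw [ρq] at e
    have e1 := congrArg c.π e
    rw [c.co.map_mul _ (mul_mem (α1 _).1 (mz _).1) _ (β1 _).1, c.co.map_mul _ (α1 _).1 _ (mz _).1, (mz _).2,
      α3, β3, c.co.map_one, add_zero, add_eq_zero_zmod2] at e1
    have f0 : g.f = 0 := eq_zero_of_dot fun w => by
      rw [dotProduct_comm, ← bi, ← e1, ← α3, ← α3, c.co.polar_iff (α1 _).1 (α1 _).1]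
      exact (T.pair T.pa).E_comm (α1 _) (α1 _)
    have w0 : g.w = 0 := inj (by rw [e1, f0, map_zero, map_zero])
    rw [f0, w0, α0, β0, one_mul, mul_one] at e
    exact El.q_eq_one.2 ⟨w0, f0, by_contra fun k => T.es.ne_one ((if_neg k).symm.trans e)⟩
  · rw [ρq, α0, β0, one_mul, mul_one, zz, if_neg ht] at e
    choose μ hμ using fun w => r.ge (show (c.r x).1 (ι w) ∈ c.E (c.π a) by
      rw [← α3, c.r_act e (α1 w).1]
      exact (c.mem_E T.pa (T.pre.norm x e _ (α1 w).1)).2 (T.nrm T.pa T.h4 e (α1 w).1 (α1 w).2))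
    let M := LinearMap.toMatrix' (linOfAdd μ fun w w' => inj (by simp only [map_add, hμ]))
    have hM : ∀ w, ι (M *ᵥ w) = (c.r x).1 (ι w) := fun w => by rw [LinearMap.toMatrix'_mulVec]; exact hμ w
    have d : M.det ≠ 0 := fun k => by
      obtain ⟨w, w0, k⟩ := exists_mulVec_eq_zero_iff.2 k
      exact O_apply_ne_zero (c.r x) (mt (fun e => inj (e.trans (map_zero ι).symm)) w0) (by rw [← hM, k, map_zero])
    let g : El (Fin n) (ZMod 2) :=
      ⟨GeneralLinearGroup.mkOfDetNeZero M d, ⟨1, by rw [one_pow]; exact zmod2_ne_zero.1 d⟩, 0, 0, 0⟩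
    have e1 : ρ g = ψ (sl g) := show α 0 * 1 * _ * β 0 = _ by rw [α0, β0]; simp
    have e2 := (Commute.inv_left (P (sl g)).1).eq
    have m := T.cenQ' T.pa T.h4 (Commute.mul_left e2 e).eq fun u p q =>
      (c.r_fix (Commute.mul_left e2 e).eq p).1 (by
        obtain ⟨w, k⟩ := r.ge ((c.mem_E T.pa p).2 q)
        rw [c.r_mul e2 e, c.r_inv (P _).1, ← k, O_mul_apply, ← hM]
        exact O_inv_apply_eq _ (act (sl g) w))
    obtain ⟨w, f, k⟩ := dec (c.π ((ψ (sl g))⁻¹ * x))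
    rw [← α3, ← β3, ← c.co.map_mul _ (α1 w).1 _ (β1 f).1, eq_comm, c.co.eq_iff (mul_mem (α1 w).1 (β1 f).1) m] at k
    rcases k with k | k
    · exact ⟨g * .q w f 0, by rw [map_mul, e1, ρq, zz, if_pos rfl, mul_one, ← k, mul_inv_cancel_left]⟩
    · exact ⟨g * .q w f 1, by rw [map_mul, e1, ρq, zz, if_neg one_ne_zero, mul_assoc (α w),
        ← T.es.comm_z _ (β1 f).1, ← mul_assoc (α w), ← k, mul_inv_cancel_left]⟩

end Tw

end CfsgLib.LXR
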