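import Cfsg.Agent.Lib.LXR.Uq

/-! Root elements in `C(z)` -/

set_option autoImplicit false

namespace CfsgLib.LXR

open Subgroup CfsgLib.ExtraTwo CfsgLib.LargeExtra
open CfsgLib.LXQ (Qx mem_Qx_conj conj_mem_Qx isConj_conj)

variable {G : Type*} [Group G] [Finite G] [IsSimpleGroup G] {z a b a' b' u x y y' : G} {n : ℕ}

/-- two conjugates of `z` in the two different subgroups `A = Q_z ⊓ Q_a`, `B = Q_z ⊓ Q_b` -/
structure Tw (z a b : G) (n : ℕ) : Prop extends Hr z n where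
  h4 : 4 ≤ n
  pa : Pt z a
  pb : Pt z b
  nm : b ∉ Qx a

omit [IsSimpleGroup G] in
theorem Hn.sym (h : Hn z n) (hx : IsConj z x) (hy : IsConj z y) (m : x ∈ Qx y) : y ∈ Qx x := by
  by_cases e : x = y
  exacts [e ▸ m, ((h.conj hy).symm ⟨hy.symm.trans hx, m, e⟩).mem]

theorem Hr.exists_tw (h : Hr z n) (h4 : 4 ≤ n) (p : Pt z a) : ∃ b, Tw z a b n := by
  by_contra! c
  have k : ∀ s, Pt z s → s ∈ Qx a := fun s ps => by_contra fun e => c s ⟨h, h4, p, ps, e⟩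
  exact Hu.false ⟨h, h4, ⟨a, p⟩, fun s t ps pt => ((h.pt p h4 pt.mem (k t pt) (h.ne_one pt.conj) pt.ne).2.ge
    ⟨ps.mem, k s ps⟩).2⟩

structure Yp (z a b y : G) : Prop where
  conj : IsConj z y
  qa : y ∈ Qx a
  qb : y ∈ Qx b
  c : y * z = z * y
  nq : y ∉ Qx z

omit [Finite G] [IsSimpleGroup G] in
theorem Yp.symm (Y : Yp z a b y) : Yp z b a y := ⟨Y.conj, Y.qb, Y.qa, Y.c, Y.nq⟩

namespace Tw
variable (T : Tw z a b n)
include T

omit [IsSimpleGroup G] in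
theorem symm' : Tw z b a n := ⟨T.toHr, T.h4, T.pb, T.pa, fun m => T.nm (T.sym T.pa.conj T.pb.conj m)⟩

theorem inter (h0 : u ∈ Qx z) (h1 : u ∈ Qx a) (h2 : u ∈ Qx b) : u = 1 ∨ u = z := by
  by_contra! c
  exact T.nm (((T.pt T.pb T.h4 h0 h2 c.1 c.2).2.symm.trans (T.pt T.pa T.h4 h0 h1 c.1 c.2).2).le
    ⟨T.pb.mem, (T.conj T.pb.conj).es.mem⟩).2

theorem cover (hu : IsConj z u) (m : u ∈ Qx z) : u ∈ Qx a ∨ u ∈ Qx b := by
  by_cases e : u = z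
  · exact .inl (e ▸ (T.symm T.pa).mem)
  exact or_iff_not_imp_left.2 (T.two T.pa T.h4 T.pb ⟨hu, m, e⟩ T.nm)

theorem left (h0 : a' ∈ Qx z) (h1 : a' ∈ Qx a) (e1 : a' ≠ 1) (e2 : a' ≠ z) : Tw z a' b n ∧ Qx z ⊓ Qx a' = Qx z ⊓ Qx a :=
  let ⟨p, e⟩ := T.pt T.pa T.h4 h0 h1 e1 e2
  ⟨⟨T.toHr, T.h4, p, T.pb, fun m => T.nm (e.le ⟨T.pb.mem, m⟩).2⟩, e⟩

section
variable (Y : Yp z a b y)
include Y

omit [IsSimpleGroup G] in
theorem tw_a : Tw a z y n := ⟨T.cj T.pa.conj, T.h4, T.symm T.pa,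
  ⟨T.pa.conj.symm.trans Y.conj, Y.qa, fun e => Y.nq (e ▸ T.pa.mem)⟩, Y.nq⟩

omit [IsSimpleGroup G] in
theorem tw_y : Tw y a b n := ⟨T.cj Y.conj, T.h4, (T.conj T.pa.conj).symm (T.tw_a Y).pb,
  (T.conj T.pb.conj).symm (T.symm'.tw_a Y.symm).pb, T.nm⟩

omit [IsSimpleGroup G] in
theorem fix (h1 : x ∈ Qx a) (e : x * b = b * x) : y * x = x * y := by
  by_contra c
  have := (T.conj T.pb.conj).pre.norm x e y Y.qb
  rw [(T.conj T.pa.conj).es.conj_of_ne Y.qa h1 (Ne.symm c), mul_mem_cancel_left Y.qb] at this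
  exact T.symm'.nm this

theorem mov (h0 : x ∈ Qx z) (h1 : x ∈ Qx a) (e : x * b ≠ b * x) : y * x * y⁻¹ = x * a :=
  (T.conj T.pa.conj).es.conj_of_ne h1 Y.qa fun c => Y.nq (T.cenQ T.pa T.h4 fun w w0 w1 => by
    by_cases k : w * b = b * w
    · exact (T.fix Y w1 k).symm
    · exact Commute.eq <| by
        simpa using Commute.mul_left (T.fix Y (mul_mem w1 h1)
          (T.es.mul_comm_of_not_comm T.pb.mem w0 h0 k e)).symm (Commute.inv_left c.symm))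

theorem uniq (Y' : Yp z a b y') : y' = y :=
  ((T.tw_y Y).inter (((T.tw_a Y).cover (T.tw_a Y').pb.conj Y'.qa).resolve_left Y'.nq) Y'.qa Y'.qb).resolve_left
    (T.ne_one Y'.conj)

theorem nrm_a {g : G} (e : g * a = a * g) : g * y * g⁻¹ ∈ Qx a ∧ g * y * g⁻¹ ∈ Qx y :=
  ⟨(T.conj T.pa.conj).pre.norm g e y Y.qa,
    (T.tw_a Y).nrm (T.tw_a Y).pb T.h4 e Y.qa (T.conj Y.conj).es.mem⟩

theorem ycomm (T' : Tw z a' b' n) (Y' : Yp z a' b' y') (ha : a ∈ Qx a') (hb : b ∈ Qx b') (e1 : a * b' = b' * a)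
    (e2 : a' * b = b * a') : y' * y = y * y' := by
  obtain ⟨k1, k2⟩ := T.nrm_a Y (T'.fix Y' ha e1)
  have k3 := (T.symm'.nrm_a Y.symm (T'.symm'.fix Y'.symm hb e2.symm)).1
  exact comm_of_conj_eq (((T.tw_y Y).inter k2 k1 k3).resolve_left (T.ne_one (isConj_conj Y.conj y')))

theorem chain (T' : Tw z a' b' n) (Y' : Yp z a' b' y') (ha : a ∈ Qx a') (hb : b' ∈ Qx b) (e0 : a * b = b * a)
    (e1 : a * b' = b' * a) (e2 : a' * b ≠ b * a') : Yp z a b' (y * y' * y⁻¹ * y'⁻¹) := by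
  obtain ⟨k1, k2⟩ := T.nrm_a Y (T'.fix Y' ha e1)
  have k3 := (T'.symm'.nrm_a Y'.symm (T.symm'.fix Y.symm hb e1.symm)).1
  have my := (T.conj Y.conj).es.mem
  have e : y * y' * y⁻¹ * y'⁻¹ = y * (y' * y * y'⁻¹)⁻¹ := by group
  have m1 : _ ∈ Qx a := e ▸ mul_mem Y.qa (inv_mem k1)
  have m2 : _ ∈ Qx y := e ▸ mul_mem my (inv_mem k2)
  have m3 := mul_mem k3 (inv_mem Y'.qb)
  have n1 : y * y' * y⁻¹ * y'⁻¹ ≠ 1 := fun c => by
    have ma := (T'.tw_y Y').pa.mem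
    have := (T.conj Y'.conj).pre.norm y (comm_of_conj_eq (mul_inv_eq_one.1 c)) a' ma
    rw [T.mov Y T'.pa.mem (T.sym T.pa.conj T'.pa.conj ha) e2, mul_mem_cancel_left ma] at this
    rcases (T'.tw_a Y').inter ha (T.pa.mem) this with k | k
    exacts [T.ne_one T.pa.conj k, e2 (k ▸ e0)]
  have n2 : y * y' * y⁻¹ * y'⁻¹ ∉ Qx z := fun c => by
    rcases (T.symm'.left T'.pb.mem hb (T.ne_one T'.pb.conj) T'.pb.ne).1.inter c m3 m1 with k | k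
    exacts [n1 k, Y.nq (T.sym (IsConj.refl z) Y.conj (k ▸ m2))]
  exact ⟨T.pa.conj.trans ((T.tw_a Y).pt (T.tw_a Y).pb T.h4 m1 m2 n1 fun c => n2 (c ▸ T.pa.mem)).1.conj, m1, m3,
    (Commute.mul_left (Commute.mul_left (Commute.mul_left Y.c Y'.c) (Commute.inv_left Y.c))
      (Commute.inv_left Y'.c)).eq, n2⟩

end

theorem exists_y (e : a * b = b * a) : ∃ y, Yp z a b y := by
  have hb := T.cj T.pb.conj
  have ha := T.cj T.pa.conj
  have zb := T.symm T.pb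
  have za := (T.symm T.pa).mem
  obtain ⟨v, V⟩ := hb.exists_tw T.h4 zb
  obtain ⟨u, u1, u2, c⟩ : ∃ u ∈ Qx b, u ∈ Qx v ∧ u * z ≠ z * u := by
    by_contra! c
    exact V.symm'.nm (hb.cen V.pb T.h4 zb.mem c)
  have U := (V.symm'.left u1 u2 (fun k => c (by simp [k])) fun k => c (k ▸ T.es.comm_z b T.pb.mem)).1
  have uz := hb.es.conj_of_ne zb.mem u1 c
  have mu := (hb.conj U.pa.conj).es.mem
  have nr : ∀ {g w}, g * b = b * g → w ∈ Qx b → w ∈ Qx u → g * w * g⁻¹ * w⁻¹ ∈ Qx b ∧ g * w * g⁻¹ * w⁻¹ ∈ Qx u :=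
    fun k p q => ⟨mul_mem (hb.pre.norm _ k _ p) (inv_mem p), mul_mem (hb.nrm U.pa T.h4 k p q) (inv_mem q)⟩
  obtain ⟨y1, y2⟩ := nr e u1 mu
  have a2 := T.sq T.pa.conj
  have ay : a * (a * u * a⁻¹ * u⁻¹) = u * a * u⁻¹ := by
    rw [inv_eq_of_mul_eq_one_right a2, mul_assoc a u, mul_assoc a, ← mul_assoc, a2, one_mul]
  have yc : a * u * a⁻¹ * u⁻¹ * z = z * (a * u * a⁻¹ * u⁻¹) := hb.es.mul_comm_of_not_comm zb.mem
    (hb.pre.norm a e u u1) (inv_mem u1) (fun k => c (Commute.eq <| by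
      have az : Commute a z := T.es.comm_z a T.pa.mem
      simpa [mul_assoc] using (az.inv_left.mul_left k).mul_left az)) fun k => c (by simpa using (Commute.inv_left k).eq)
  have n1 : a * u * a⁻¹ * u⁻¹ ≠ 1 := fun k => T.nm ((mul_mem_cancel_left za).1
    (uz ▸ ha.pre.norm u (comm_of_conj_eq (mul_inv_eq_one.1 k)).symm z za))
  have aD := isConj_conj T.pa.conj u
  have aQ := conj_mem_Qx uz T.pa.mem
  rw [← ay] at aD aQ
  generalize a * u * a⁻¹ * u⁻¹ = y at *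
  have n2 : y ≠ b := fun k => (T.cover aD (k ▸ mul_mem T.pa.mem T.pb.mem)).elim
    (fun m => T.nm (k ▸ (mul_mem_cancel_left ha.es.mem).1 m)) fun m => T.symm'.nm ((mul_mem_cancel_right y1).1 m)
  have n3 : y ∉ Qx z := fun k => (U.inter y1 y2 k).elim n1 n2
  have k0 : ∀ w ∈ Qx z, w ∈ Qx a → w ∈ Qx b → w ∈ Qx u → w = 1 := fun w p q r s =>
    (T.inter p q r).resolve_right fun k => U.nm (k ▸ s)
  have k1 : ∀ w ∈ Qx z, w ∈ Qx a → w * y * w⁻¹ * y⁻¹ ∈ Qx z ∧ w * y * w⁻¹ * y⁻¹ ∈ Qx a := fun w p q => by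
    rw [mul_assoc, mul_assoc, ← mul_assoc y]
    exact ⟨mul_mem p (T.pre.norm y yc _ (inv_mem p)), mul_mem q (T.nrm T.pa T.h4 yc (inv_mem p) (inv_mem q))⟩
  have k2 : ∀ w ∈ Qx z, w ∈ Qx a → w * b = b * w → y * w = w * y := fun w p q r =>
    (comm_of_conj_eq (mul_inv_eq_one.1 (k0 _ (k1 w p q).1 (k1 w p q).2 (nr r y1 y2).1 (nr r y1 y2).2))).symm
  refine ⟨y, T.pb.conj.trans (hb.pt U.pa T.h4 y1 y2 n1 n2).1.conj, ha.cenQ' (T.symm T.pa) T.h4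
    (k2 a T.pa.mem ha.es.mem e) fun w q p => ?_, y1, yc, n3⟩
  by_cases r : w * b = b * w
  · exact .inl (conj_eq_of_comm (k2 w p q r))
  have wa := ha.es.comm_z w q
  have m := conj_mem_Qx (x' := b) (by rw [← conj_mul, T.es.conj_of_ne T.pb.mem p r,
    conj_eq_of_comm (T.es.comm_z w p), T.es.comm_z b T.pb.mem, T.es.zz]) aQ (g := w)
  have mD := isConj_conj aD w
  obtain ⟨c1, c2⟩ := k1 w p q
  rw [show w * (a * y) * w⁻¹ = a * (w * y * w⁻¹ * y⁻¹) * y by rw [← conj_mul, conj_eq_of_comm wa]; group] at m mD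
  have := k0 _ (mul_mem T.pa.mem c1) (mul_mem ha.es.mem c2) ((mul_mem_cancel_right y1).1 m)
    ((mul_mem_cancel_right y2).1 ((U.cover (T.pb.conj.symm.trans mD) m).resolve_right fun k =>
      n3 ((mul_mem_cancel_left (mul_mem T.pa.mem c1)).1 k)))
  exact .inr (by rw [wa, eq_inv_of_mul_eq_one_left this]; group)

end Tw

end CfsgLib.LXR
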