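import Cfsg.Agent.Lib.LXR.Az
import Cfsg.Agent.Lib.GHM.Tools
import Cfsg.Agent.Lib.LXW.Base

/-! The conjugates of `z` in `Q_z` do not lie in a single subgroup `Q_z ⊓ Q_t` -/

set_option autoImplicit false

namespace CfsgLib.LXR

open Subgroup QuadraticMap Module CfsgLib.ExtraTwo CfsgLib.LargeExtra CfsgLib.OrthE CfsgLib.Small9
open CfsgLib.LXQ (CC Qx Qx_conj mem_Qx_conj conj_mem_Qx isConj_conj mem_Qx_mul)

variable {G : Type*} [Group G] [Finite G] {z t s x y a b g w : G} {n : ℕ}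

theorem Hn.dual (h : Hn x n) (hs : s * x = x * s) (h2 : s * s = 1) {P : Subgroup G} (hP : P ≤ Qx x) (hx : x ∈ P)
    (hw : w ∈ Qx x) (k : ∀ v ∈ Qx x, (s * v * s⁻¹ = v ∨ s * v * s⁻¹ = v * x) → (∀ p ∈ P, p * v = v * p) →
      w * v = v * w) : ∃ v ∈ Qx x, ∃ p ∈ P, w = s * v * s⁻¹ * v⁻¹ * p := by
  obtain ⟨c⟩ := h.exists_cn
  have k2 : c.r s * c.r s = 1 := by rw [← c.r_mul hs hs, h2]; exact (c.r_eq_one (by simp)).2 (one_mem _)
  by_cases e : c.π w ∈ LinearMap.range ((c.r s).1.toLinearMap + LinearMap.id) ⊔ c.co.img P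
  · obtain ⟨_, ⟨u, rfl⟩, _, ⟨p, hp, -, rfl⟩, e⟩ := Submodule.mem_sup.1 e
    obtain ⟨v, hv, rfl⟩ := c.co.surj u
    have m := mul_mem (h.pre.norm s hs v hv) (inv_mem hv)
    change (c.r s).1 (c.π v) + c.π v + _ = _ at e
    rw [← c.π_comm hs hv, ← c.co.map_mul _ m _ (hP hp), c.co.eq_iff (mul_mem m (hP hp)) hw] at e
    exact ⟨v, hv, e.elim (fun e => ⟨p, hp, e⟩) fun e => ⟨_, mul_mem hp hx, e.trans (mul_assoc _ _ _)⟩⟩
  obtain ⟨u, e1, e2⟩ := exists_sep c.nd e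
  obtain ⟨v, hv, rfl⟩ := c.co.surj u
  refine absurd (k v hv ((c.r_fix hs hv).1 (add_eq_zero_zmod2.1 (c.nd _ fun u => ?_))) fun p hp =>
    (c.co.polar_iff (hP hp) hv).1 (e1 _ (Submodule.mem_sup_right ⟨p, hp, hP hp, rfl⟩))) ((c.b_ne hw hv).1 e2)
  rw [b_adj k2, polar_comm]
  exact e1 _ (Submodule.mem_sup_left ⟨u, rfl⟩)

/-- the subgroup generated by the conjugates of `x` in `Q_x` -/
def Ax (x : G) : Subgroup G := closure {y | Pt x y}

omit [Finite G] in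
theorem Ax_conj (g : G) (h : a ∈ Ax x) : g * a * g⁻¹ ∈ Ax (g * x * g⁻¹) :=
  (closure_le ((Ax _).comap (MulAut.conj g).toMonoidHom)).2 (fun _ p => subset_closure (p.cj g)) h

omit [Finite G] in
theorem Ax_nrm (e : g * x = x * g) (h : a ∈ Ax x) : g * a * g⁻¹ ∈ Ax x := by
  simpa only [conj_eq_of_comm e] using Ax_conj g h

variable [IsSimpleGroup G]

theorem Hr.cenQ' (h : Hr z n) (p : Pt z t) (h4 : 4 ≤ n) (hg : g * z = z * g)
    (e : ∀ y ∈ Qx z, y ∈ Qx t → g * y * g⁻¹ = y ∨ g * y * g⁻¹ = y * z) : g ∈ Qx z := by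
  obtain ⟨c⟩ := h.exists_cn
  have := h.neZero
  obtain ⟨a, b⟩ := h.a4 p h4 c
  refine (c.r_eq_one hg).1 ((c.lt p).eq_one (c.lt p).iv_span b.ge (c.r_mem g) fun v hv => ?_)
  obtain ⟨y, hy, rfl⟩ := c.co.surj v
  exact (c.r_fix hg hy).2 (e y hy ((c.mem_E p hy).1 (a ▸ b ▸ hv)))

theorem Hr.cenQ (h : Hr z n) (p : Pt z t) (h4 : 4 ≤ n) (e : ∀ y ∈ Qx z, y ∈ Qx t → y * g = g * y) : g ∈ Qx z :=
  h.cenQ' p h4 (e z h.es.mem (h.symm p).mem).symm fun y a b => .inl (conj_eq_of_comm (e y a b).symm)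

structure Hu (z : G) (n : ℕ) : Prop extends Hr z n where
  h4 : 4 ≤ n
  ex : ∃ t, Pt z t
  uq : ∀ s t, Pt z s → Pt z t → s ∈ Qx t

namespace Hu
variable (h : Hu z n)
include h

omit [Finite G] [IsSimpleGroup G] in
theorem cj' (hs : IsConj z s) : Hu s n := by
  obtain ⟨g, rfl⟩ := isConj_iff.1 hs
  refine ⟨h.cj hs, h.h4, h.ex.elim fun _ p => ⟨_, p.cj g⟩, fun a b pa pb => ?_⟩
  have k : ∀ {a}, Pt (g * z * g⁻¹) a → Pt z (g⁻¹ * a * g) := fun p => by simpa [mul_assoc] using p.cj g⁻¹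
  simpa [mul_assoc] using (mem_Qx_conj (g := g)).2 (h.uq _ _ (k pa) (k pb))

theorem eq (p : Pt z t) : Ax z = Qx z ⊓ Qx t := le_antisymm ((closure_le _).2 fun s q => ⟨q.mem, h.uq s t q p⟩)
  (h.AZ_eq_inf p h.h4 ▸ closure_mono (by rintro _ ⟨g, hg, rfl⟩; exact p.cj' hg))

theorem le : Ax z ≤ Qx z := h.ex.elim fun _ p => (h.eq p).le.trans inf_le_left

theorem self : z ∈ Ax z := h.ex.elim fun _ p => (h.eq p).ge ⟨h.es.mem, (h.symm p).mem⟩

theorem cm (ha : a ∈ Ax z) (hb : b ∈ Ax z) : a * b = b * a :=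
  h.ex.elim fun _ p => (h.pair p).E_comm (h.eq p ▸ ha) (h.eq p ▸ hb)

theorem sq' (ha : a ∈ Ax z) : a * a = 1 := h.ex.elim fun _ p => (h.pair p).E_sq (h.eq p ▸ ha)

theorem memD (ha : a ∈ Ax z) (h1 : a ≠ 1) : IsConj z a ∧ Ax a = Ax z := by
  obtain ⟨t, p⟩ := h.ex
  by_cases e : a = z
  · exact e ▸ ⟨IsConj.refl _, rfl⟩
  rw [h.eq p] at ha
  have q := (h.pt p h.h4 ha.1 ha.2 h1 e).1
  exact ⟨q.conj, by rw [h.eq q, (h.cj' q.conj).eq (h.symm q), inf_comm]⟩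

theorem mem_of (hy : IsConj z y) (m : y ∈ Qx z) : y ∈ Ax z := by
  by_cases e : y = z
  exacts [e ▸ h.self, subset_closure ⟨hy, m, e⟩]

theorem cenA (e : ∀ a ∈ Ax z, a * g = g * a) : g ∈ Ax z := by
  obtain ⟨t, p⟩ := h.ex
  rw [h.eq p] at e ⊢
  have := h.cenQ p h.h4 fun y a b => e y ⟨a, b⟩
  exact ⟨this, h.cen p h.h4 this fun y a b => e y ⟨a, b⟩⟩

end Hu

/-- a commuting conjugate of `x` outside `A_x` -/
structure Cf (x s : G) (n : ℕ) : Prop extends Hu x n where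
  hs : IsConj x s
  c : s * x = x * s
  nm : s ∉ Ax x

namespace Cf
variable (f : Cf x s n)
include f

theorem symm' : Cf s x n := ⟨f.cj' f.hs, f.hs.symm, f.c.symm, fun e =>
  f.nm (((f.cj' f.hs).memD e f.es.ne_one).2 ▸ (f.cj' f.hs).self)⟩

theorem disj (ha : a ∈ Ax x) (hb : a ∈ Ax s) : a = 1 := by_contra fun e =>
  f.nm ((f.memD ha e).2 ▸ ((f.cj' f.hs).memD hb e).2 ▸ (f.cj' f.hs).self)

theorem disjQ (ha : a ∈ Qx x) (hb : a ∈ Ax s) : a = 1 := by_contra fun e =>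
  e (f.disj (f.mem_of (f.hs.trans (f.symm'.memD hb e).1) ha) hb)

theorem left (ha : a ∈ Ax x) (h1 : a ≠ 1) (e : s * a = a * s) : Cf a s n :=
  ⟨f.cj' (f.memD ha h1).1, (f.memD ha h1).1.symm.trans f.hs, e, (f.memD ha h1).2 ▸ f.nm⟩

theorem cQ (ha : w ∈ Qx x) (e : w * s = s * w) (hy : y ∈ Ax s) (e' : y * x = x * y) : w * y = y * w := by
  have := f.disjQ (mul_mem ha (f.pre.norm y e' _ (inv_mem ha))) (by
    simpa [mul_assoc] using mul_mem (Ax_nrm e hy) (inv_mem hy))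
  rw [← mul_inv_eq_one, ← this]; group

theorem c2 (hy : y ∈ Ax s) (e' : y * x = x * y) (h1 : y ≠ 1) (ha : a ∈ Ax x) (e : a * y = y * a) : a * s = s * a :=
  (f.symm'.left hy h1 e'.symm).symm'.cQ (f.le ha) e ((f.symm'.memD hy h1).2 ▸ f.symm'.self) f.c

theorem ex_a : ∃ a ∈ Ax x, a * s ≠ s * a := by
  by_contra! c; exact f.nm (f.cenA c)

theorem φ (ha : a ∈ Ax x) (hy : y ∈ Ax s) (e' : y * x = x * y) :
    y * a * y⁻¹ * a⁻¹ ∈ Ax x ∧ y * a * y⁻¹ * a⁻¹ * s = s * (y * a * y⁻¹ * a⁻¹) := by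
  have m := mul_mem (Ax_nrm e' ha) (inv_mem ha)
  refine ⟨m, ?_⟩
  by_cases h1 : y = 1
  · simp [h1]
  refine f.c2 hy e' h1 m (comm_of_conj_eq ?_).symm
  exact (LXW.conj_cc (f.symm'.sq' hy) a).trans (inv_eq_of_mul_eq_one_right (f.sq' m))

theorem inj (ha : a ∈ Ax x) (e : a * s ≠ s * a) : Function.Injective fun y : (Ax s ⊓ CC x : Subgroup G) =>
    (⟨_, (f.φ ha y.2.1 (mem_cent.1 y.2.2)).imp_right mem_cent.2⟩ : (Ax x ⊓ CC s : Subgroup G)) := fun y y' k => by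
  have k : y * a * (y : G)⁻¹ = y' * a * (y' : G)⁻¹ := mul_right_cancel (congrArg Subtype.val k)
  by_contra ne
  refine e (f.c2 (y'⁻¹ * y).2.1 (mem_cent.1 (y'⁻¹ * y).2.2) (fun c => ne (inv_mul_eq_one.1 (Subtype.ext c)).symm) ha
    (comm_of_conj_eq ?_).symm)
  rw [coe_mul, coe_inv, show ∀ u v : G, u⁻¹ * v * a * (u⁻¹ * v)⁻¹ = u⁻¹ * (v * a * v⁻¹) * u from fun u v => by group, k]
  group

theorem sur (ha : a ∈ Ax x) (e : a * s ≠ s * a) (hb : b ∈ Ax x) (e' : b * s = s * b) :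
    ∃ y ∈ Ax s, y * x = x * y ∧ y * a * y⁻¹ * a⁻¹ = b := by
  obtain ⟨c, hc, k⟩ := f.symm'.ex_a
  obtain ⟨y, hy⟩ := ((Nat.bijective_iff_injective_and_card _).2 ⟨f.inj ha e, le_antisymm
    (Nat.card_le_card_of_injective _ (f.inj ha e)) (Nat.card_le_card_of_injective _ (f.symm'.inj hc k))⟩).2
    ⟨b, hb, mem_cent.2 e'⟩
  exact ⟨y, y.2.1, mem_cent.1 y.2.2, congrArg Subtype.val hy⟩

section
variable (ha : a ∈ Ax x) (ea : s * a * s⁻¹ * a⁻¹ = x)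
include ha ea

omit ha in
theorem na : a * s ≠ s * a := fun e => f.es.ne_one (by rw [← ea, ← e]; group)

theorem cX (hw : w ∈ Qx x) (e : w * s = s * w) (hb : b ∈ Ax x) (e' : b * s = s * b) : b * w = w * b := by
  obtain ⟨y, hy, c, rfl⟩ := f.sur ha (f.na ea) hb e'
  have k := conj_eq_of_comm (f.cQ hw e hy c)
  refine (comm_of_conj_eq ?_).symm
  rw [← conj_mul, ← conj_mul, ← conj_mul, ← conj_inv, ← conj_inv, k]
  rcases f.es.conj (f.le ha) hw with e | e <;> rw [e]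
  rw [← conj_mul, conj_eq_of_comm c]; group

theorem adj {v : G} (hv : v ∈ Qx x) (e : s * v * s⁻¹ * v⁻¹ ∈ Ax x) :
    s * (a * v) * s⁻¹ * (a * v)⁻¹ = s * v * s⁻¹ * v⁻¹ * x := by
  rw [f.cm e f.self, ← conj_eq_of_comm (f.cm ha e)]; nth_rw 1 [← ea]; group

theorem fixw {v : G} (hv : v ∈ Qx x) (e : s * v * s⁻¹ = v ∨ s * v * s⁻¹ = v * x) :
    v * s = s * v ∨ a * v * s = s * (a * v) := e.imp (fun e => (comm_of_conj_eq e).symm) fun e => by
  have k : s * v * s⁻¹ * v⁻¹ = x := by rw [e, f.es.comm_z v hv]; group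
  have := f.adj ha ea hv (k ▸ f.self)
  rw [k, f.es.mul_self, mul_inv_eq_one] at this
  exact (comm_of_conj_eq this).symm

theorem cX' {v : G} (hv : v ∈ Qx x) (e : s * v * s⁻¹ = v ∨ s * v * s⁻¹ = v * x) (hb : b ∈ Ax x)
    (e' : b * s = s * b) : b * v = v * b := (f.fixw ha ea hv e).elim (fun k => f.cX ha ea hv k hb e') fun k => by
  have := f.cX ha ea (mul_mem (f.le ha) hv) k hb e'
  rw [← mul_assoc, f.cm hb ha, mul_assoc, mul_assoc] at this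
  exact mul_left_cancel this

theorem mulD' (hb : b ∈ Ax x) (e' : b * s = s * b) : IsConj s (s * b) := by
  have h2 := f.sq f.hs
  have k : ∀ v, s * v * s⁻¹ * v⁻¹ = b → IsConj s (s * b) := fun v e =>
    isConj_iff.2 ⟨v, e ▸ (LXW.mul_cc h2 v).symm⟩
  obtain ⟨v, hv, p, hp, e⟩ := f.dual f.c h2 (zpowers_le.2 f.es.mem) (mem_zpowers x) (f.le hb)
    fun v hv e _ => f.cX' ha ea hv e hb e'
  rcases f.es.mem_zpowers.1 hp with rfl | rfl
  · exact k v (by rw [e, mul_one])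
  · exact k _ ((f.adj ha ea hv ((mul_mem_cancel_right f.self).1 (e ▸ hb))).trans e.symm)

theorem ex_w : ∃ w ∈ Qx x, w ∉ Ax x ∧ w * s = s * w := by
  by_contra! c
  have h2 := f.sq f.hs
  obtain ⟨v, hv, p, hp, e⟩ := f.dual f.c h2 (zpowers_le.2 f.es.mem) (mem_zpowers x) (f.le ha) fun v hv e _ =>
    f.cm ha (by_contra fun m => (f.fixw ha ea hv e).elim (c v hv m)
      (c _ (mul_mem (f.le ha) hv) fun k => m ((mul_mem_cancel_left ha).1 k)))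
  have m : s * v * s⁻¹ * v⁻¹ ∈ Ax x := (mul_mem_cancel_right (zpowers_le.2 f.self hp)).1 (e ▸ ha)
  refine f.na ea (comm_of_conj_eq ?_).symm
  rw [e, ← conj_mul, conj_eq_of_comm (mem_cent.1 (zpowers_le.2 (mem_cent.2 f.c.symm) hp)).symm]
  exact congrArg (· * p) ((LXW.conj_cc h2 v).trans (inv_eq_of_mul_eq_one_right (f.sq' m)))

end

theorem ex_x : ∃ a ∈ Ax x, Cf (s * a * s⁻¹ * a⁻¹) s n ∧ Ax (s * a * s⁻¹ * a⁻¹) = Ax x := by
  obtain ⟨a, ha, e⟩ := f.ex_a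
  obtain ⟨m, c⟩ := f.φ ha f.symm'.self f.c
  have h1 : s * a * s⁻¹ * a⁻¹ ≠ 1 := fun k => e (comm_of_conj_eq (mul_inv_eq_one.1 k)).symm
  exact ⟨a, ha, f.left m h1 c.symm, (f.memD m h1).2⟩

theorem mulD (hb : b ∈ Ax x) (e' : b * s = s * b) : IsConj s (s * b) :=
  let ⟨_, ha, f', e⟩ := f.ex_x
  f'.mulD' (e ▸ ha) rfl (e ▸ hb) e'

theorem w_sq (hw : w ∈ Qx x) (e : w * s = s * w) : w * w = 1 := (f.es.sq hw).resolve_right fun k => by
  have f' := f.symm'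
  have m : ∀ {b}, b ∈ Ax s → w * b * w⁻¹ * b⁻¹ ∈ Ax s := fun hb => mul_mem (Ax_nrm e hb) (inv_mem hb)
  have k1 : ∀ {b}, b ∈ Ax s → w * (w * b * w⁻¹ * b⁻¹) * w⁻¹ * (w * b * w⁻¹ * b⁻¹)⁻¹ = x * b * x⁻¹ * b⁻¹ :=
    fun {b} hb => by
    rw [inv_eq_of_mul_eq_one_right (f'.sq' (m hb)), ← k]; group
  have k2 : ∀ {b}, b ∈ Ax s → x * b * x⁻¹ * b⁻¹ = 1 → w * b * w⁻¹ * b⁻¹ = 1 := fun hb c =>
    mul_inv_eq_one.2 (conj_eq_of_comm (f.cQ hw e hb (comm_of_conj_eq (mul_inv_eq_one.1 c)).symm))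
  obtain ⟨b, hb, c⟩ := f'.ex_a
  obtain ⟨m1, c1⟩ := f'.φ hb f.self f.c.symm
  have := k2 m1 (mul_inv_eq_one.2 (conj_eq_of_comm c1.symm))
  rw [← k1 hb, k1 (m hb)] at this
  have := k2 (m hb) this
  rw [k1 hb] at this
  exact c (comm_of_conj_eq (mul_inv_eq_one.1 this)).symm

theorem false : False := by
  obtain ⟨a₀, h0, f, e⟩ := f.ex_x
  rw [← e] at h0
  obtain ⟨w, hw, nw, cw⟩ := f.ex_w h0 rfl
  have cX := fun b => f.cX (b := b) h0 rfl hw cw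
  have na := f.na rfl
  generalize s * a₀ * s⁻¹ * a₀⁻¹ = x at *
  have f' := f.symm'
  have nD : ¬ IsConj x w := fun c => nw (f.mem_of c hw)
  by_cases hc : ∀ a ∈ Ax x, a * w = w * a → a * s = s * a
  · obtain ⟨y, hy, c, e⟩ := f.sur h0 na f.self f.c.symm
    have y1 : y ≠ 1 := fun k => f.es.ne_one (by simpa [k] using e.symm)
    have n0 : a₀ * w ≠ w * a₀ := fun k => na (hc _ h0 k)
    have k0 : a₀ * (w * y) = w * y * a₀ := (comm_of_conj_eq (by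
      rw [show w * y * a₀ * (w * y)⁻¹ = w * (y * a₀ * y⁻¹ * a₀⁻¹ * a₀) * w⁻¹ by group, e, ← conj_mul,
        conj_eq_of_comm (f.es.comm_z w hw), f.es.conj_of_ne (f.le h0) hw n0.symm, f.cm h0 f.self, f.es.zz])).symm
    have k1 : ∀ a ∈ Ax x, a * w = w * a → a * (w * y) = w * y * a := fun a ha k =>
      Commute.mul_right k (f.cQ (f.le ha) (hc a ha k) hy c)
    refine y1 (f.disjQ ((mul_mem_cancel_left hw).1 (f.le (f.cenA fun a ha => ?_))) hy)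
    by_cases k : a * w = w * a
    · exact k1 a ha k
    · exact Commute.eq <| by
        simpa using Commute.mul_left (k1 _ (mul_mem ha h0) (f.es.mul_comm_of_not_comm hw (f.le ha) (f.le h0) k n0))
          (Commute.inv_left k0)
  push Not at hc
  obtain ⟨a, ha, ca, na⟩ := hc
  obtain ⟨y, hy, c, e⟩ := f.sur ha na f.self f.c.symm
  have y1 : y ≠ 1 := fun k => f.es.ne_one (by simpa [k] using e.symm)
  have y2 := f'.sq' hy
  have fy := (f'.left hy y1 c.symm).symm'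
  have wy := f.cQ hw cw hy c
  obtain ⟨v, hv, p, hp, e'⟩ := f.dual c y2 f.le f.self hw fun v hv k k' => by
    have m := f.cenA k'
    rcases fy.fixw ha e hv k with k | k
    · exact (cX v m (f.c2 hy c y1 m k)).symm
    · exact Commute.eq <| by
        simpa using Commute.mul_right (Commute.inv_left ca).symm
          (cX _ (mul_mem ha m) (f.c2 hy c y1 (mul_mem ha m) k)).symm
  have u2 : y * w * (y * w) = 1 := by
    rw [Commute.mul_mul_mul_comm wy, y2, f.w_sq hw cw, mul_one]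
  have e1 : y * w = v * y * v⁻¹ * p := by rw [e', ← mul_assoc]; exact congrArg (· * p) (LXW.mul_cc y2 v)
  have fv : Cf x (v * y * v⁻¹) n := ⟨f.toHu, isConj_conj fy.hs v,
    (Commute.mul_left (Commute.mul_left (f.es.comm_z v hv) c) (Commute.inv_left (f.es.comm_z v hv))).eq,
    fun m => fy.nm (by simpa [mul_assoc] using Ax_nrm (f.es.comm_z _ (inv_mem hv)) m)⟩
  have uD := fv.hs.trans (e1 ▸ fv.mulD hp (by
    rw [e1] at u2
    rw [← inv_eq_of_mul_eq_one_right u2, mul_inv_rev, inv_eq_of_mul_eq_one_right (f.sq' hp),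
      inv_eq_of_mul_eq_one_right (f.sq fv.hs)]))
  have fu : Cf s (y * w) n := ⟨f'.toHu, f.hs.symm.trans uD, (Commute.mul_left (f'.cm hy f'.self) cw).eq, fun m =>
    nw (f.disjQ hw ((mul_mem_cancel_left hy).1 m) ▸ one_mem _)⟩
  have := uD.trans (fu.mulD hy (by rw [mul_assoc, wy]))
  rw [mul_assoc, wy, ← mul_assoc, y2, one_mul] at this
  exact nD this

end Cf

theorem Hu.false (h : Hu z n) : False := by
  obtain ⟨P, h1, h2⟩ := h.pre.exists_sylow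
  obtain ⟨t, p⟩ := h.ex
  obtain ⟨a, ha, e⟩ := h.es.exists_not_comm p.mem (h.ne_one p.conj) p.ne
  refine e (GHM.comm_of_sc h.ncomm (Tech.IsSylowIn.of_sylow_top P) (h.le.trans h1)
    (fun c => h.es.ne_one (c.le h.self)) (fun _ a _ b => h.cm a b) (fun b hb g m => by_contra fun c => ?_)
    (h1 p.mem) (h.sq p.conj) (h1 ha)).symm
  exact Cf.false ⟨h, isConj_conj (h.memD hb fun k => c (by simp [k])).1 g, mem_cent.1 (h2 m), c⟩

end CfsgLib.LXR
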